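import Mathlib
import Cfsg.Agent.Lib.Helper49.RUW.Defs

set_option autoImplicit false

/-! # Project RUW (S3174 + S3175), package [WC]

Weak closure of `W = C_T(Z₃(T))` in the Sylow 2-subgroup `T`. -/

namespace Cfsg.Agent.Lib.Helper1.RUW

open Cfsg.Agent.Lib.Helper49.RUW

universe u

/-- `card V * V.relIndex H = card H` for `V ≤ H` -/
theorem card_mul_relIndex_of_le {X : Type u} [Group X] {V H : Subgroup X} (h : V ≤ H) :
    Nat.card V * V.relIndex H = Nat.card H := by
  have h1 := Subgroup.relIndex_mul_relIndex (⊥ : Subgroup X) V H bot_le h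
  rwa [Subgroup.relIndex_bot_left, Subgroup.relIndex_bot_left] at h1

/-- the image of a subgroup under an injective homomorphism has the same order -/
theorem card_map_inj {A B : Type u} [Group A] [Group B] (H : Subgroup A) (f : A →* B)
    (hf : Function.Injective f) : Nat.card ↥(H.map f) = Nat.card ↥H :=
  (Nat.card_congr (Subgroup.equivMapOfInjective H f hf).toEquiv).symm

/-- the abstract weak closure argument -/
theorem wc_core {G : Type u} [Group G] [Finite G] (hCompl : PkgCompl.{u})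
    (Tg W Z X ZX : Subgroup G) (hWT : W ≤ Tg) (hXT : X ≤ Tg)
    (cT : Nat.card Tg = 2 ^ 14) (cW : Nat.card W = 2 ^ 11) (cX : Nat.card X = 2 ^ 11)
    (cZ : Nat.card Z = 8) (cZX : Nat.card ZX = 8)
    (hdW : ∀ U : Subgroup G, U ≤ W → Nat.card W ≤ 16 * Nat.card U → Z ≤ U)
    (hdX : ∀ U : Subgroup G, U ≤ X → Nat.card X ≤ 16 * Nat.card U → ZX ≤ U)
    (sqW : ∀ w ∈ W, w * w ∈ Z) (sqX : ∀ x ∈ X, x * x ∈ ZX)
    (cenW : ∀ w ∈ W, ∀ z ∈ Z, w * z = z * w) (cenX : ∀ x ∈ X, ∀ z ∈ ZX, x * z = z * x)
    (selfC : ∀ t ∈ Tg, (∀ z ∈ Z, t * z = z * t) → t ∈ W) : X = W := by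
  have hIX : X ⊓ W ≤ X := inf_le_left
  have hIW : X ⊓ W ≤ W := inf_le_right
  have hW8 : W.relIndex Tg = 8 := by
    have h := card_mul_relIndex_of_le hWT
    rw [cW, cT] at h
    norm_num at h
    omega
  have hX8 : X.relIndex Tg = 8 := by
    have h := card_mul_relIndex_of_le hXT
    rw [cX, cT] at h
    norm_num at h
    omega
  have h1 : (X ⊓ W).relIndex X ≤ 8 := by
    rw [Subgroup.inf_relIndex_left]
    calc W.relIndex X ≤ W.relIndex Tg :=
          Subgroup.relIndex_le_of_le_right hXT (by rw [hW8]; norm_num)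
      _ = 8 := hW8
  have h2 : (X ⊓ W).relIndex W ≤ 8 := by
    rw [Subgroup.inf_relIndex_right]
    calc X.relIndex W ≤ X.relIndex Tg :=
          Subgroup.relIndex_le_of_le_right hWT (by rw [hX8]; norm_num)
      _ = 8 := hX8
  have cIX := card_mul_relIndex_of_le hIX
  have cIW := card_mul_relIndex_of_le hIW
  have hWI : Nat.card W ≤ 8 * Nat.card ↥(X ⊓ W) := by
    rw [← cIW, mul_comm 8]
    exact Nat.mul_le_mul le_rfl h2
  have hXI : Nat.card X ≤ 8 * Nat.card ↥(X ⊓ W) := by
    rw [← cIX, mul_comm 8]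
    exact Nat.mul_le_mul le_rfl h1
  have hZI : Z ≤ X ⊓ W := hdW _ hIW (by omega)
  have hZXI : ZX ≤ X ⊓ W := hdX _ hIX (by omega)
  by_cases hH : Z ⊓ ZX = Z
  · have hZZX : Z ≤ ZX := by rw [← hH]; exact inf_le_right
    have hZeq : Z = ZX := Subgroup.eq_of_le_of_card_ge hZZX (by rw [cZ, cZX])
    have hXW : X ≤ W := by
      intro x hx
      apply selfC x (hXT hx)
      intro z hz
      exact cenX x hx z (hZeq ▸ hz)
    exact Subgroup.eq_of_le_of_card_ge hXW (by rw [cX, cW])
  · exfalso
    obtain ⟨U, hUI, hEU, hcard⟩ := hCompl (X ⊓ W) (Z ⊓ ZX) Z inf_le_left hZI hH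
      (fun w hw => ⟨sqW w (hIW hw), sqX w (hIX hw)⟩)
      (fun k hk h hh => by
        have e : k * h * k⁻¹ = h := by
          rw [cenW k (hIW hk) h hh.1, mul_inv_cancel_right]
        rw [e]
        exact hh)
    apply hEU
    apply hdW U (hUI.trans hIW)
    omega

theorem pkgWC (h74 : Stmt3174.{u}) (hCompl : PkgCompl.{u}) : PkgWC.{u} := by
  intro G _ _ T hT14 hZ4 W hW hfr hd
  have hTp : IsPGroup 2 ↥(T : Subgroup G) := T.isPGroup'
  obtain ⟨cT, hcomm, hfrat, -, cZ3, -, -, cQ, expQ⟩ := h74 hTp hT14 hZ4 W hW hfr hd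
  have hιinj : Function.Injective (T : Subgroup G).subtype := Subgroup.subtype_injective _
  have hsinj : Function.Injective W.subtype := Subgroup.subtype_injective _
  -- orders
  have hc8 : Nat.card ↥(commutator ↥W) = 8 := by
    rw [← card_map_inj (commutator ↥W) W.subtype hsinj, hcomm]
    exact cZ3
  have cW0 : Nat.card ↥W = 2 ^ 11 := by
    have h := Subgroup.card_eq_card_quotient_mul_card_subgroup (commutator ↥W)
    rw [cQ, hc8] at h
    rw [h]
    norm_num
  have hZ3W : Subgroup.upperCentralSeries ↥(T : Subgroup G) 3 ≤ W := by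
    rw [← hfrat]
    exact Subgroup.map_subtype_le _
  -- facts in `G`
  have hdW : ∀ U : Subgroup G, U ≤ W.map (T : Subgroup G).subtype →
      Nat.card ↥(W.map (T : Subgroup G).subtype) ≤ 16 * Nat.card U →
      (Subgroup.upperCentralSeries ↥(T : Subgroup G) 3).map (T : Subgroup G).subtype ≤ U := by
    intro U hU hc
    have hj : Function.Injective ((T : Subgroup G).subtype.comp W.subtype) :=
      hιinj.comp hsinj
    have hU'map : (U.comap ((T : Subgroup G).subtype.comp W.subtype)).map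
        ((T : Subgroup G).subtype.comp W.subtype) = U := by
      apply le_antisymm
      · rintro _ ⟨y, hy, rfl⟩
        exact hy
      · intro x hx
        obtain ⟨w, hw, e⟩ := hU hx
        have hmem : (⟨w, hw⟩ : ↥W) ∈ U.comap ((T : Subgroup G).subtype.comp W.subtype) := by
          rw [Subgroup.mem_comap]
          show (T : Subgroup G).subtype w ∈ U
          rw [e]
          exact hx
        exact ⟨⟨w, hw⟩, hmem, e⟩
    have cU' : Nat.card ↥(U.comap ((T : Subgroup G).subtype.comp W.subtype)) = Nat.card U := by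
      conv_rhs => rw [← hU'map]
      exact (card_map_inj _ _ hj).symm
    have hidx : (U.comap ((T : Subgroup G).subtype.comp W.subtype)).index ≤ 16 := by
      have h1 := Subgroup.card_mul_index (U.comap ((T : Subgroup G).subtype.comp W.subtype))
      have h2 : Nat.card ↥W ≤
          16 * Nat.card ↥(U.comap ((T : Subgroup G).subtype.comp W.subtype)) := by
        rw [cU', ← card_map_inj W (T : Subgroup G).subtype hιinj]
        exact hc
      have hpos : 0 < Nat.card ↥(U.comap ((T : Subgroup G).subtype.comp W.subtype)) :=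
        Nat.card_pos
      rw [← h1, mul_comm 16] at h2
      exact Nat.le_of_mul_le_mul_left h2 hpos
    have hf := hd _ hidx
    rw [← hfrat, Subgroup.map_map, Subgroup.map_le_iff_le_comap]
    exact hf
  have sqW : ∀ w ∈ W.map (T : Subgroup G).subtype, w * w ∈
      (Subgroup.upperCentralSeries ↥(T : Subgroup G) 3).map (T : Subgroup G).subtype := by
    rintro _ ⟨w0, hw0, rfl⟩
    have h1 := expQ (QuotientGroup.mk (⟨w0, hw0⟩ : ↥W))
    rw [← QuotientGroup.mk_pow, QuotientGroup.eq_one_iff] at h1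
    have h2 : W.subtype ((⟨w0, hw0⟩ : ↥W) ^ 2) ∈ (commutator ↥W).map W.subtype :=
      Subgroup.mem_map_of_mem _ h1
    rw [hcomm] at h2
    refine ⟨w0 * w0, ?_, map_mul _ _ _⟩
    have e : W.subtype ((⟨w0, hw0⟩ : ↥W) ^ 2) = w0 * w0 := by
      rw [pow_two]
      rfl
    rw [← e]
    exact h2
  have cenW : ∀ w ∈ W.map (T : Subgroup G).subtype, ∀ z ∈
      (Subgroup.upperCentralSeries ↥(T : Subgroup G) 3).map (T : Subgroup G).subtype,
      w * z = z * w := by
    rintro _ ⟨w0, hw0, rfl⟩ _ ⟨z0, hz0, rfl⟩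
    have hw0' : w0 ∈ W := hw0
    rw [hW, Subgroup.mem_centralizer_iff] at hw0'
    have h := hw0' z0 hz0
    rw [← map_mul, ← map_mul, h]
  have selfC : ∀ t ∈ (T : Subgroup G), (∀ z ∈
      (Subgroup.upperCentralSeries ↥(T : Subgroup G) 3).map (T : Subgroup G).subtype,
      t * z = z * t) → t ∈ W.map (T : Subgroup G).subtype := by
    intro t ht hcz
    have hmem : (⟨t, ht⟩ : ↥(T : Subgroup G)) ∈ W := by
      rw [hW, Subgroup.mem_centralizer_iff]
      intro z0 hz0
      apply Subtype.ext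
      have h := hcz ((T : Subgroup G).subtype z0) ⟨z0, hz0, rfl⟩
      exact h.symm
    exact ⟨⟨t, ht⟩, hmem, rfl⟩
  have cWG : Nat.card ↥(W.map (T : Subgroup G).subtype) = 2 ^ 11 := by
    rw [card_map_inj W _ hιinj]; exact cW0
  have cZG : Nat.card ↥((Subgroup.upperCentralSeries ↥(T : Subgroup G) 3).map
      (T : Subgroup G).subtype) = 8 := by
    rw [card_map_inj _ _ hιinj]; exact cZ3
  refine ⟨Subgroup.map_subtype_le W, ?_⟩
  intro g hg
  have hcinj : Function.Injective (MulAut.conj g).toMonoidHom := (MulAut.conj g).injective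
  have hcsurj : Function.Surjective (MulAut.conj g).toMonoidHom := (MulAut.conj g).surjective
  refine wc_core hCompl (T : Subgroup G) (W.map (T : Subgroup G).subtype)
    ((Subgroup.upperCentralSeries ↥(T : Subgroup G) 3).map (T : Subgroup G).subtype)
    ((W.map (T : Subgroup G).subtype).map (MulAut.conj g).toMonoidHom)
    (((Subgroup.upperCentralSeries ↥(T : Subgroup G) 3).map (T : Subgroup G).subtype).map
      (MulAut.conj g).toMonoidHom)
    (Subgroup.map_subtype_le W) hg cT cWG ?_ cZG ?_ hdW ?_ sqW ?_ cenW ?_ selfC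
  · rw [card_map_inj _ _ hcinj]; exact cWG
  · rw [card_map_inj _ _ hcinj]; exact cZG
  · intro U hU hc
    have hU0 : U.comap (MulAut.conj g).toMonoidHom ≤ W.map (T : Subgroup G).subtype := by
      intro u hu
      obtain ⟨w, hw, e⟩ := hU (Subgroup.mem_comap.mp hu)
      rw [← hcinj e]
      exact hw
    have hU0map : (U.comap (MulAut.conj g).toMonoidHom).map (MulAut.conj g).toMonoidHom = U :=
      Subgroup.map_comap_eq_self_of_surjective hcsurj U
    have cU0 : Nat.card ↥(U.comap (MulAut.conj g).toMonoidHom) = Nat.card U := by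
      conv_rhs => rw [← hU0map]
      exact (card_map_inj _ _ hcinj).symm
    have h := hdW _ hU0 (by
      rw [cU0, ← card_map_inj (W.map (T : Subgroup G).subtype) _ hcinj]; exact hc)
    exact Subgroup.map_le_iff_le_comap.2 h
  · rintro _ ⟨w, hw, rfl⟩
    exact ⟨w * w, sqW w hw, map_mul _ w w⟩
  · rintro _ ⟨w, hw, rfl⟩ _ ⟨z, hz, rfl⟩
    rw [← map_mul, ← map_mul, cenW w hw z hz]

end Cfsg.Agent.Lib.Helper1.RUW
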